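/-
3-transpositions whose local groups are symmetric of degree three.
-/
import Cfsg.Agent.Lib.ThreeTrans.Elementary
import Cfsg.Agent.Lib.Basic
import Cfsg.Agent.S2530

set_option autoImplicit false
set_option linter.style.haveILetI false

namespace CfsgLocalS3

open Cfsg CfsgThreeTrans

variable {G : Type*} [Group G] [Finite G] {D : Set G}

/-- The standing hypotheses. -/
structure Hyp (D : Set G) : Prop where
  set : IsThreeTranspositionSet D
  conj : ∀ g : G, ∀ d ∈ D, g * d * g⁻¹ ∈ D
  loc : ∀ d ∈ D, Nonempty (↥(Subgroup.closure {y : G | y ∈ D ∧ y ≠ d ∧ Commute d y}) ≃* Equiv.Perm (Fin 3))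
  core : ∀ d ∈ D, Nat.card (pCore 3 ↥(Subgroup.centralizer ({d} : Set G))) = 3

variable (h : Hyp D)
include h

/-- The members commuting with a given member are `a`, `b`, `a * b * a`. -/
theorem triple {d : G} (hd : d ∈ D) : ∃ a b, a ∈ D ∧ b ∈ D ∧ a ≠ d ∧ b ≠ d ∧ Commute d a ∧ Commute d b ∧ ¬ Commute a b ∧
    a * b * a ∈ D ∧ a * b * a ≠ d ∧ Commute d (a * b * a) ∧
    ∀ x ∈ D, x ≠ d → Commute d x → x = a ∨ x = b ∨ x = a * b * a := by
  classical
  obtain ⟨e⟩ := h.loc d hd
  set S := {y : G | y ∈ D ∧ y ≠ d ∧ Commute d y} with hS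
  obtain ⟨a, ha, b, hb, hab⟩ : ∃ a ∈ S, ∃ b ∈ S, ¬ Commute a b := by
    by_contra hc
    push Not at hc
    haveI : IsMulCommutative ↥(Subgroup.closure S) :=
      Subgroup.isMulCommutative_closure (fun x hx y hy => hc x hx y hy)
    have := congrArg e (this.is_comm.comm (e.symm (Equiv.swap 0 1)) (e.symm (Equiv.swap 1 2)))
    rw [map_mul, map_mul, e.apply_symm_apply, e.apply_symm_apply] at this
    revert this
    decide
  have haa := mul_self h.set ha.1
  have hc : a * b * a ∈ S := by
    have hainv : a⁻¹ = a := inv_self h.set ha.1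
    refine ⟨?_, ?_, (ha.2.2.mul_right hb.2.2).mul_right ha.2.2⟩
    · have := h.conj a b hb.1
      rwa [hainv] at this
    · intro e'
      refine hb.2.1 ?_
      have e2 := congrArg (fun t => a * t * a) e'
      simp only [mul_assoc, haa, mul_one, mul_mul_cancel_self haa] at e2
      rw [ha.2.2.eq, mul_mul_cancel_self haa] at e2
      exact e2
  refine ⟨a, b, ha.1, hb.1, ha.2.1, hb.2.1, ha.2.2, hb.2.2, hab, hc.1, hc.2.1, hc.2.2, fun x hxD hxd hdx => ?_⟩
  let u : ∀ y ∈ S, ↥(Subgroup.closure S) := fun y hy => ⟨y, Subgroup.subset_closure hy⟩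
  have hx : x ∈ S := ⟨hxD, hxd, hdx⟩
  have key : ∀ p q r : Equiv.Perm (Fin 3), p * p = 1 → q * q = 1 → r * r = 1 → r ≠ 1 → p * q ≠ q * p →
      r = p ∨ r = q ∨ r = p * q * p := by decide +kernel
  have hsq : ∀ y (hy : y ∈ S), e (u y hy) * e (u y hy) = 1 := fun y hy => by
    rw [← map_mul, show u y hy * u y hy = 1 from Subtype.ext (mul_self h.set hy.1), map_one]
  rcases key (e (u a ha)) (e (u b hb)) (e (u x hx)) (hsq a ha) (hsq b hb) (hsq x hx)
    (fun e' => by
      have : x = 1 := congrArg Subtype.val (e.injective (e'.trans (map_one e).symm))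
      have h2 := h.set.1 x hxD
      rw [this, orderOf_one] at h2
      omega)
    (fun e' => hab (congrArg Subtype.val (e.injective (by rw [map_mul, map_mul]; exact e') : u a ha * u b hb = u b hb * u a ha)))
    with e' | e' | e'
  · exact Or.inl (congrArg Subtype.val (e.injective e'))
  · exact Or.inr (Or.inl (congrArg Subtype.val (e.injective e')))
  · refine Or.inr (Or.inr ?_)
    rw [← map_mul, ← map_mul] at e'
    exact congrArg Subtype.val (e.injective e')

theorem not_commute_aba {a b : G} (ha : a ∈ D) (hb : b ∈ D) (hab : ¬ Commute a b) :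
    ¬ Commute a (a * b * a) ∧ ¬ Commute b (a * b * a) := by
  have haa := mul_self h.set ha
  constructor
  · intro hc
    refine hab ?_
    have := hc.eq
    simp only [mul_assoc, mul_mul_cancel_self haa, haa, mul_one] at this
    exact this.symm
  · intro hc
    refine hab ?_
    have hinj := hc.eq
    rw [braid h.set ha hb hab] at hinj
    simp only [mul_assoc, mul_mul_cancel_self (mul_self h.set hb), mul_self h.set hb, mul_one] at hinj
    exact hinj

/-- No two distinct members commuting with `d` commute. -/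
theorem not_commute {d a b : G} (hd : d ∈ D) (ha : a ∈ D) (hb : b ∈ D) (had : a ≠ d) (hbd : b ≠ d)
    (hda : Commute d a) (hdb : Commute d b) (hab : a ≠ b) : ¬ Commute a b := by
  obtain ⟨p, q, hp, hq, -, -, -, -, hpq, -, -, -, hall⟩ := triple h hd
  obtain ⟨h1, h2⟩ := not_commute_aba h hp hq hpq
  rcases hall a ha had hda with rfl | rfl | rfl <;> rcases hall b hb hbd hdb with rfl | rfl | rfl
  all_goals first
    | exact absurd rfl hab
    | exact hpq
    | exact fun e => hpq e.symm
    | exact h1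
    | exact h2
    | exact fun e => h1 e.symm
    | exact fun e => h2 e.symm

/-- At most three members commute with `d`. -/
theorem mem_three {d a b c x : G} (hd : d ∈ D) (ha : a ∈ D ∧ a ≠ d ∧ Commute d a) (hb : b ∈ D ∧ b ≠ d ∧ Commute d b)
    (hc : c ∈ D ∧ c ≠ d ∧ Commute d c) (hab : a ≠ b) (hac : a ≠ c) (hbc : b ≠ c) (hx : x ∈ D ∧ x ≠ d ∧ Commute d x) :
    x = a ∨ x = b ∨ x = c := by
  classical
  obtain ⟨p, q, -, -, -, -, -, -, -, -, -, -, hall⟩ := triple h hd
  have hsub : ({a, b, c, x} : Finset G) ⊆ {p, q, p * q * p} := by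
    intro y hy
    simp only [Finset.mem_insert, Finset.mem_singleton] at hy ⊢
    rcases hy with rfl | rfl | rfl | rfl
    · exact hall _ ha.1 ha.2.1 ha.2.2
    · exact hall _ hb.1 hb.2.1 hb.2.2
    · exact hall _ hc.1 hc.2.1 hc.2.2
    · exact hall _ hx.1 hx.2.1 hx.2.2
  by_contra hcon
  push Not at hcon
  have h1 := (Finset.card_le_card hsub).trans Finset.card_le_three
  rw [Finset.card_insert_of_notMem (by simp [hab, hac, hcon.1.symm]), Finset.card_insert_of_notMem (by simp [hbc, hcon.2.1.symm]),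
    Finset.card_pair (Ne.symm hcon.2.2)] at h1
  omega

/-- The member commuting with `z` attached to a commuting pair avoiding `z`. -/
theorem col {d a z : G} (hd : d ∈ D) (ha : a ∈ D) (hz : z ∈ D) (hne : d ≠ a) (hda : Commute d a)
    (hzd : ¬ Commute d z) (hza : ¬ Commute a z) :
    d * z * a * z * d ∈ D ∧ d * z * a * z * d ≠ z ∧ Commute z (d * z * a * z * d) ∧
      ¬ Commute d (d * z * a * z * d) ∧ d * z * a * z * d = a * z * d * z * a := by
  obtain ⟨φ, hφ, h0, h1, h2⟩ := S4_exists h.set hd hz ha hne hda hzd (fun e => hza e.symm)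
  refine ⟨?_, ?_, ?_, ?_, ?_⟩
  · have := h.conj (d * z) a ha
    rw [mul_inv_rev, inv_self h.set hd, inv_self h.set hz, ← mul_assoc] at this
    exact this
  all_goals simp only [← h0, ← h1, ← h2, ← map_mul]
  · exact fun e => by have := hφ e; revert this; decide
  · exact Commute.map (by unfold Commute SemiconjBy; decide) φ
  · intro e
    have := hφ ((map_mul φ _ _).trans (e.eq.trans (map_mul φ _ _).symm))
    revert this
    decide
  · exact congrArg φ (by decide)

theorem col_inj {d a b z : G} (hd : d ∈ D) (hz : z ∈ D) (e : d * z * a * z * d = d * z * b * z * d) : a = b := by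
  have hdd := mul_mul_cancel_self (mul_self h.set hd)
  have hzz := mul_mul_cancel_self (mul_self h.set hz)
  have := congrArg (fun t => z * (d * t * d) * z) e
  simpa only [mul_assoc, hdd, hzz, mul_self h.set hd, mul_self h.set hz, mul_one] using this

theorem pCore_cases {d a b : G} (hd : d ∈ D) (ha : a ∈ D ∧ a ≠ d ∧ Commute d a) (hb : b ∈ D ∧ b ≠ d ∧ Commute d b)
    (hab : ¬ Commute a b) (V : Subgroup G) [V.Normal] (hV : IsPGroup 3 V) {v : G} (hv : v ∈ V) (hvd : Commute d v)
    (hva : Commute a v) : v = 1 := by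
  classical
  haveI : Fact (Nat.Prime 3) := ⟨Nat.prime_three⟩
  set C := Subgroup.centralizer ({d} : Set G) with hC
  have memC : ∀ {g : G}, g ∈ C ↔ Commute g d := fun {g} => Subgroup.mem_centralizer_singleton_iff
  have habne : a ≠ b := fun e => hab (e ▸ Commute.refl _)
  have hac : a ≠ a * b * a := fun e => (not_commute_aba h ha.1 hb.1 hab).1 (e ▸ Commute.refl _)
  have hbc : b ≠ a * b * a := fun e => (not_commute_aba h ha.1 hb.1 hab).2 (e ▸ Commute.refl _)
  have haa := mul_self h.set ha.1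
  have hbb := mul_self h.set hb.1
  have hc : a * b * a ∈ D ∧ a * b * a ≠ d ∧ Commute d (a * b * a) := by
    refine ⟨by simpa [inv_self h.set ha.1] using h.conj a b hb.1, fun e' => ?_, (ha.2.2.mul_right hb.2.2).mul_right ha.2.2⟩
    refine hab ?_
    have hadc : Commute a (a * b * a) := by rw [e']; exact ha.2.2.symm
    exact absurd hadc (not_commute_aba h ha.1 hb.1 hab).1
  let t : ↥C := ⟨a * b, memC.mpr (ha.2.2.mul_right hb.2.2).symm⟩
  have ht3 : t ^ 3 = 1 := Subtype.ext (pow_three h.set ha.1 hb.1 hab)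
  have ht1 : t ≠ 1 := fun e => habne (by
    have : a * b = 1 := congrArg Subtype.val e
    rw [eq_inv_of_mul_eq_one_left this, inv_self h.set hb.1])
  have htord : orderOf t = 3 := orderOf_eq_prime ht3 ht1
  -- the product generates a normal subgroup
  haveI hn : (Subgroup.zpowers t).Normal := by
    refine ⟨fun x hx g => ?_⟩
    obtain ⟨k, rfl⟩ := Subgroup.mem_zpowers_iff.mp hx
    rw [← conj_zpow]
    refine Subgroup.zpow_mem _ ?_ k
    have hg : Commute d (g : G) := (memC.mp g.2).symm
    have himg : ∀ y, y ∈ D ∧ y ≠ d ∧ Commute d y →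
        (g : G) * y * (g : G)⁻¹ = a ∨ (g : G) * y * (g : G)⁻¹ = b ∨ (g : G) * y * (g : G)⁻¹ = a * b * a := by
      intro y hy
      have he : (g : G) * d * (g : G)⁻¹ = d := by rw [← hg.eq, mul_inv_cancel_right]
      refine mem_three h hd ha hb hc habne hac hbc ⟨h.conj _ y hy.1, fun e => hy.2.1 ?_, ?_⟩
      · exact (MulAut.conj (g : G)).injective (e.trans he.symm)
      · rw [← he]; exact (Commute.map hy.2.2 (MulAut.conj (g : G)).toMonoidHom)
    have hP := himg a ha
    have hQ := himg b hb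
    have hne : (g : G) * a * (g : G)⁻¹ ≠ (g : G) * b * (g : G)⁻¹ := fun e => habne ((MulAut.conj (g : G)).injective e)
    have e : ((g * t * g⁻¹ : C) : G) = ((g : G) * a * (g : G)⁻¹) * ((g : G) * b * (g : G)⁻¹) := by simp [t, mul_assoc]
    have hmem : ∀ y : C, ((y : G) = a * b ∨ (y : G) = b * a) → y ∈ Subgroup.zpowers t := by
      rintro y (e | e)
      · rw [show y = t from Subtype.ext e]; exact Subgroup.mem_zpowers t
      · rw [show y = t⁻¹ from Subtype.ext (by rw [e]; simp [t, inv_self h.set ha.1, inv_self h.set hb.1])]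
        exact Subgroup.inv_mem _ (Subgroup.mem_zpowers t)
    refine hmem _ ?_
    rw [e]
    exact products ha.1 hb.1 hab hP hQ hne
  have hle : Subgroup.zpowers t ≤ pCore 3 ↥C :=
    CfsgLib.le_pCore (IsPGroup.of_card (n := 1) (by rw [Nat.card_zpowers, htord]; norm_num))
  have heq : Subgroup.zpowers t = pCore 3 ↥C := Subgroup.eq_of_le_of_card_ge hle (by
    rw [Nat.card_zpowers, htord, h.core d hd])
  have hvC : (⟨v, memC.mpr hvd.symm⟩ : C) ∈ Subgroup.zpowers t := by
    rw [heq]
    exact CfsgLib.le_pCore (N := V.subgroupOf C) (hV.of_injective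
      { toFun := fun x => (⟨(x : C), x.2⟩ : V), map_one' := rfl, map_mul' := fun _ _ => rfl }
      fun x y e => Subtype.ext (Subtype.ext (congrArg Subtype.val e :))) hv
  obtain ⟨k, hk⟩ := Subgroup.mem_zpowers_iff.mp hvC
  rw [← zpow_mod_orderOf, htord] at hk
  have hk' : (a * b) ^ (k % ((3 : ℕ) : ℤ)) = v := congrArg Subtype.val hk
  have : k % ((3 : ℕ) : ℤ) = 0 ∨ k % ((3 : ℕ) : ℤ) = 1 ∨ k % ((3 : ℕ) : ℤ) = 2 := by omega
  rcases this with e | e | e <;> rw [e] at hk'
  · simpa using hk'.symm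
  · exfalso
    rw [zpow_one] at hk'
    subst hk'
    refine hab ?_
    have := (Commute.refl a).mul_right hva
    have h2 : Commute a (a⁻¹ * (a * b)) := (Commute.refl a).inv_right.mul_right hva
    rwa [inv_mul_cancel_left] at h2
  · exfalso
    refine hab ?_
    have h3 : (a * b) ^ (2 : ℕ) = v := by exact_mod_cast hk'
    have h4 : Commute a (((a * b) ^ (2 : ℕ)) ^ 2) := by rw [h3]; exact hva.pow_right 2
    rw [← pow_mul, show 2 * 2 = 3 + 1 from rfl, pow_add, pow_three h.set ha.1 hb.1 hab, one_mul, pow_one] at h4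
    have h2 : Commute a (a⁻¹ * (a * b)) := (Commute.refl a).inv_right.mul_right h4
    rwa [inv_mul_cancel_left] at h2
where
  products {a b P Q : G} (ha : a ∈ D) (hb : b ∈ D) (hab : ¬ Commute a b) (hP : P = a ∨ P = b ∨ P = a * b * a)
      (hQ : Q = a ∨ Q = b ∨ Q = a * b * a) (hne : P ≠ Q) : P * Q = a * b ∨ P * Q = b * a := by
    have haa := mul_self h.set ha
    have hbb := mul_self h.set hb
    have hbr := braid h.set ha hb hab
    rcases hP with rfl | rfl | rfl <;> rcases hQ with rfl | rfl | rfl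
    · exact absurd rfl hne
    · exact Or.inl rfl
    · exact Or.inr (by simp [mul_assoc, mul_mul_cancel_self haa])
    · exact Or.inr rfl
    · exact absurd rfl hne
    · refine Or.inl ?_
      rw [hbr]
      simp [mul_assoc, mul_mul_cancel_self hbb]
    · exact Or.inl (by simp [mul_assoc, haa])
    · refine Or.inr ?_
      rw [hbr]
      simp [mul_assoc, hbb]
    · exact absurd rfl hne

/-- A normal 3-subgroup is trivial as soon as some member avoids a commuting pair. -/
theorem normal_three_trivial (V : Subgroup G) [V.Normal] (hV : IsPGroup 3 V) {d a z : G} (hd : d ∈ D) (ha : a ∈ D)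
    (hz : z ∈ D) (hne : d ≠ a) (hda : Commute d a) (hzd : ¬ Commute d z) (hza : ¬ Commute a z) : V = ⊥ := by
  classical
  haveI : Fact (Nat.Prime 3) := ⟨Nat.prime_three⟩
  have hsq : ∀ v ∈ V, v * v = 1 → v = 1 := fun v hv e => by
    obtain ⟨k, hk⟩ := IsPGroup.iff_orderOf.mp hV ⟨v, hv⟩
    rw [Subgroup.orderOf_mk] at hk
    have h2 : orderOf v ∣ 2 := orderOf_dvd_of_pow_eq_one (by rw [pow_two]; exact e)
    have h1 : orderOf v = 1 := by
      have : Nat.Coprime (orderOf v) 2 := by rw [hk]; exact Nat.Coprime.pow_left _ (by norm_num)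
      exact this.eq_one_of_dvd h2
    exact orderOf_eq_one_iff.mp h1
  have hdd := mul_self h.set hd
  have haa := mul_self h.set ha
  set k := d * a with hk
  have hfix : ∀ v ∈ V, Commute k v → v = 1 := by
    intro v hv hkv
    have hw : v⁻¹ * d * v * d ∈ V := by
      have := V.mul_mem (V.inv_mem hv) (‹V.Normal›.conj_mem v hv d)
      simpa [mul_assoc, inv_self h.set hd] using this
    set w := v⁻¹ * d * v * d with hwdef
    have hu : v⁻¹ * d * v ∈ D := by simpa using h.conj v⁻¹ d hd
    have huw : v⁻¹ * d * v = w * d := by rw [hwdef, mul_assoc _ d d, hdd, mul_one]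
    have hkd : Commute k d := (Commute.refl d).mul_left hda.symm
    have hkw : Commute k w := ((hkv.inv_right.mul_right hkd).mul_right hkv).mul_right hkd
    have hdwd : d * w * d = w⁻¹ := by
      rw [hwdef]
      simp only [mul_inv_rev, inv_inv, inv_self h.set hd, mul_assoc, hdd, mul_one]
    have hsqau : (a * (v⁻¹ * d * v)) ^ 2 = (w * w)⁻¹ := by
      rw [huw, pow_two]
      calc a * (w * d) * (a * (w * d)) = a * w * (d * a) * w * d := by simp only [mul_assoc]
        _ = a * ((d * a) * w) * w * d := by rw [mul_assoc a w, ← hkw.eq]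
        _ = (a * d * a) * (w * w) * d := by simp only [mul_assoc]
        _ = d * (w * w) * d := by rw [← hda.eq, mul_assoc d a a, haa, mul_one]
        _ = (w * w)⁻¹ := by
          rw [mul_inv_rev, ← hdwd]
          simp only [mul_assoc, mul_mul_cancel_self hdd]
    have hw1 : w = 1 := by
      rcases h.set.2 a ha _ hu with e | e
      · rw [hsqau, inv_eq_one] at e
        exact hsq w hw e
      · exfalso
        rw [pow_succ, hsqau, inv_mul_eq_one] at e
        have hm : a * (w * d) ∈ V := by rw [← huw, ← e]; exact V.mul_mem hw hw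
        have hm' : a * d ∈ V := by
          have := V.mul_mem (‹V.Normal›.conj_mem w⁻¹ (V.inv_mem hw) a) hm
          simpa [mul_assoc, inv_self h.set ha, mul_mul_cancel_self haa] using this
        have h1 := hsq _ hm' (by
          calc a * d * (a * d) = a * (d * a) * d := by simp only [mul_assoc]
            _ = a * (a * d) * d := by rw [hda.eq]
            _ = 1 := by rw [← mul_assoc, haa, one_mul, hdd])
        exact hne (by rw [eq_inv_of_mul_eq_one_left h1, inv_self h.set hd])
    have hvd : Commute d v := by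
      have e1 : v⁻¹ * d * v = d := by rw [huw, hw1, one_mul]
      have := congrArg (fun t => v * t) e1
      exact (show d * v = v * d by simpa [mul_assoc] using this)
    have hva : Commute a v := by
      have h2 : Commute (d⁻¹ * (d * a)) v := hvd.inv_left.mul_left hkv
      rwa [inv_mul_cancel_left] at h2
    obtain ⟨p, q, hp, hq, hpd, hqd, hdp, hdq, hpq, -, -, -, hall⟩ := triple h hd
    -- a partner of `a`
    obtain ⟨b, hb⟩ : ∃ b, (b ∈ D ∧ b ≠ d ∧ Commute d b) ∧ ¬ Commute a b := by
      by_cases hap : a = p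
      · exact ⟨q, ⟨hq, hqd, hdq⟩, hap ▸ hpq⟩
      · exact ⟨p, ⟨hp, hpd, hdp⟩, not_commute h hd ha hp (Ne.symm hne) hpd hda hdp hap⟩
    exact pCore_cases h hd ⟨ha, Ne.symm hne, hda⟩ hb.1 hb.2 V hV hv hvd hva
  have hkk : k * k = 1 := by
    calc k * k = d * (a * d) * a := by simp only [hk, mul_assoc]
      _ = d * (d * a) * a := by rw [hda.eq]
      _ = 1 := by rw [← mul_assoc, hdd, one_mul, haa]
  have hinv : ∀ x ∈ V, k * x * k = x⁻¹ := by
    let Φ : V → V := fun v => ⟨(v : G)⁻¹ * k * v * k, by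
      have := V.mul_mem (V.inv_mem v.2) (‹V.Normal›.conj_mem v v.2 k)
      simpa [mul_assoc, inv_eq_of_mul_eq_one_right hkk] using this⟩
    have hΦ : Function.Bijective Φ := by
      refine Finite.injective_iff_bijective.mp fun v v' e => ?_
      have e' : (v : G)⁻¹ * k * v = (v' : G)⁻¹ * k * v' := mul_right_cancel (congrArg Subtype.val e)
      have e2 : Commute k ((v : G) * (v' : G)⁻¹) := by
        have := congrArg (fun t => (v : G) * t * (v' : G)⁻¹) e'
        simpa [Commute, SemiconjBy, mul_assoc] using this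
      exact Subtype.ext (mul_inv_eq_one.mp (hfix _ (V.mul_mem v.2 (V.inv_mem v'.2)) e2))
    intro x hx
    obtain ⟨v, hv⟩ := hΦ.2 ⟨x, hx⟩
    have : x = (v : G)⁻¹ * k * v * k := (congrArg Subtype.val hv).symm
    rw [this]
    simp only [mul_inv_rev, inv_inv, inv_eq_of_mul_eq_one_right hkk, mul_assoc, hkk, mul_one]
  obtain ⟨φ, -, h0, h1, h2⟩ := S4_exists h.set hd hz ha hne hda hzd (fun e => hza e.symm)
  let K : Equiv.Perm (Fin 4) := Equiv.swap 0 1 * Equiv.swap 2 3
  have hall : ∀ σ : Equiv.Perm (Fin 4), ∀ x ∈ V, φ (σ * K * σ⁻¹) * x * φ (σ * K * σ⁻¹) = x⁻¹ := by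
    intro σ x hx
    have hK : φ K = k := by rw [map_mul, h0, h2]
    have hx' : (φ σ)⁻¹ * x * φ σ ∈ V := by simpa using ‹V.Normal›.conj_mem x hx (φ σ)⁻¹
    rw [map_mul, map_mul, map_inv, hK]
    calc φ σ * k * (φ σ)⁻¹ * x * (φ σ * k * (φ σ)⁻¹) = φ σ * (k * ((φ σ)⁻¹ * x * φ σ) * k) * (φ σ)⁻¹ := by
          simp only [mul_assoc]
      _ = x⁻¹ := by rw [hinv _ hx']; simp [mul_assoc]
  refine (Subgroup.eq_bot_iff_forall V).mpr fun x hx => hsq x hx ?_
  have e3 : ∃ σ τ ρ : Equiv.Perm (Fin 4), σ * K * σ⁻¹ * (τ * K * τ⁻¹) = ρ * K * ρ⁻¹ ∧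
      τ * K * τ⁻¹ * (σ * K * σ⁻¹) = ρ * K * ρ⁻¹ :=
    ⟨1, Equiv.swap 1 2, Equiv.swap 1 3, by decide +kernel, by decide +kernel⟩
  obtain ⟨σ, τ, ρ, eρ, eρ'⟩ := e3
  have hA : φ (σ * K * σ⁻¹) * x⁻¹ * φ (σ * K * σ⁻¹) = x := by rw [hall σ _ (V.inv_mem hx), inv_inv]
  have hC : φ (ρ * K * ρ⁻¹) * x * φ (ρ * K * ρ⁻¹) = x := by
    calc φ (ρ * K * ρ⁻¹) * x * φ (ρ * K * ρ⁻¹)
        = φ (σ * K * σ⁻¹ * (τ * K * τ⁻¹)) * x * φ (τ * K * τ⁻¹ * (σ * K * σ⁻¹)) := by rw [eρ, eρ']
      _ = φ (σ * K * σ⁻¹) * (φ (τ * K * τ⁻¹) * x * φ (τ * K * τ⁻¹)) * φ (σ * K * σ⁻¹) := by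
          simp only [map_mul, mul_assoc]
      _ = x := by rw [hall τ x hx, hA]
  rw [hall ρ x hx] at hC
  nth_rewrite 1 [← hC]
  exact inv_mul_cancel x

end CfsgLocalS3
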