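/-
Two local triples facing each other.
-/
import Cfsg.Agent.Lib.LocalS3.Basic

set_option autoImplicit false
set_option linter.style.haveILetI false

namespace CfsgLocalS3

open Cfsg CfsgThreeTrans

variable {G : Type*} [Group G] [Finite G] {D : Set G}

/-- The members commuting with a given one. -/
def N (D : Set G) (d : G) : Set G := {y | y ∈ D ∧ y ≠ d ∧ Commute d y}

variable (h : Hyp D)
include h

theorem self_ne_one {x : G} (hx : x ∈ D) : x ≠ 1 := fun e => by
  have := h.set.1 x hx
  rw [e, orderOf_one] at this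
  omega

theorem N_eq {d a b : G} (hd : d ∈ D) (ha : a ∈ N D d) (hb : b ∈ N D d) (hab : a ≠ b) :
    N D d = {a, b, a * b * a} ∧ a * b * a ≠ a ∧ a * b * a ≠ b ∧ ¬ Commute a b := by
  have hnc := not_commute h hd ha.1 hb.1 ha.2.1 hb.2.1 ha.2.2 hb.2.2 hab
  obtain ⟨h1, h2⟩ := not_commute_aba h ha.1 hb.1 hnc
  have hca : a * b * a ≠ a := fun e => h1 (by rw [e])
  have hcb : a * b * a ≠ b := fun e => h2 (by rw [e])
  have hcD : a * b * a ∈ N D d := by
    refine ⟨by simpa [inv_self h.set ha.1] using h.conj a b hb.1, fun e => h1 ?_, (ha.2.2.mul_right hb.2.2).mul_right ha.2.2⟩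
    rw [e]; exact ha.2.2.symm
  refine ⟨Set.Subset.antisymm (fun x hx => ?_) ?_, hca, hcb, hnc⟩
  · exact mem_three h hd ha hb hcD hab (Ne.symm hca) (Ne.symm hcb) hx
  · rintro x (rfl | rfl | rfl)
    · exact ha
    · exact hb
    · exact hcD

theorem conj_N (g : G) {d y : G} (hy : y ∈ N D d) : g * y * g⁻¹ ∈ N D (g * d * g⁻¹) :=
  ⟨h.conj g y hy.1, fun e => hy.2.1 ((MulAut.conj g).injective e), Commute.map hy.2.2 (MulAut.conj g).toMonoidHom⟩

theorem conj_N_iff (g : G) {d y : G} : g * y * g⁻¹ ∈ N D (g * d * g⁻¹) ↔ y ∈ N D d := by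
  refine ⟨fun hy => ?_, conj_N h g⟩
  have := conj_N h g⁻¹ hy
  simpa [mul_assoc] using this

theorem N_symm {d a : G} (hd : d ∈ D) (ha : a ∈ N D d) : d ∈ N D a := ⟨hd, Ne.symm ha.2.1, ha.2.2.symm⟩

/-- The facing triples. -/
structure Facing (D : Set G) (d a b x : G) : Prop where
  hd : d ∈ D
  ha : a ∈ N D d
  hb : b ∈ N D d
  hne : a ≠ b
  hxd : x ≠ d
  hxa : x ∈ N D a
  hxb : x ∈ N D b

variable {d a b x : G}

/-- The two sides see each other. -/
theorem Facing.sides (F : Facing D d a b x) :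
    (∀ p ∈ N D d, N D p = N D a) ∧ (∀ r ∈ N D a, N D r = N D d) := by
  obtain ⟨eP, hca, hcb, hab⟩ := N_eq h F.hd F.ha F.hb F.hne
  have hda := N_symm h F.hd F.ha
  obtain ⟨eR, hyd, hyx, hdx⟩ := N_eq h F.ha.1 hda F.hxa (Ne.symm F.hxd)
  have hxc : x ∈ N D (a * b * a) := by
    refine ⟨F.hxa.1, fun e => (not_commute_aba h F.ha.1 F.hb.1 hab).1 ?_, ((F.hxa.2.2.mul_left F.hxb.2.2).mul_left F.hxa.2.2)⟩
    rw [← e]; exact F.hxa.2.2
  have hRp : ∀ p ∈ N D d, ∀ r ∈ N D a, r ∈ N D p := by
    intro p hp r hr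
    have hx : x ∈ N D p := by
      rw [eP] at hp
      rcases hp with rfl | rfl | rfl
      · exact F.hxa
      · exact F.hxb
      · exact hxc
    have hdp := N_symm h F.hd hp
    obtain ⟨e', -, -, -⟩ := N_eq h hp.1 hdp hx (Ne.symm F.hxd)
    rw [e']; rw [eR] at hr; exact hr
  constructor
  · intro p hp
    have hdp := N_symm h F.hd hp
    have hxp : x ∈ N D p := hRp p hp x F.hxa
    rw [(N_eq h hp.1 hdp hxp (Ne.symm F.hxd)).1, eR]
  · intro r hr
    have har : a ∈ N D r := N_symm h F.ha.1 hr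
    have hbr : b ∈ N D r := N_symm h F.hb.1 (hRp b F.hb r hr)
    rw [(N_eq h hr.1 har hbr F.hne).1, eP]

theorem Facing.conj (F : Facing D d a b x) (g : G) :
    Facing D (g * d * g⁻¹) (g * a * g⁻¹) (g * b * g⁻¹) (g * x * g⁻¹) where
  hd := h.conj g d F.hd
  ha := conj_N h g F.ha
  hb := conj_N h g F.hb
  hne := fun e => F.hne ((MulAut.conj g).injective e)
  hxd := fun e => F.hxd ((MulAut.conj g).injective e)
  hxa := conj_N h g F.hxa
  hxb := conj_N h g F.hxb

omit h [Finite G] in
theorem commute_prod {p q r : G} (hp : Commute p r) (hq : Commute q r) : Commute (p * q) r := hp.mul_left hq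

/-- The product `a * b` commutes with its conjugates. -/
theorem Facing.commute_conj (F : Facing D d a b x) (g : G) : Commute (a * b) (g * (a * b) * g⁻¹) := by
  classical
  obtain ⟨hP, hR⟩ := F.sides h
  obtain ⟨hP', hR'⟩ := (F.conj h g).sides h
  obtain ⟨eP, hca, hcb, hab⟩ := N_eq h F.hd F.ha F.hb F.hne
  set t := a * b with ht
  have ht3 : t ^ 3 = 1 := pow_three h.set F.ha.1 F.hb.1 hab
  have hs : g * t * g⁻¹ = (g * a * g⁻¹) * (g * b * g⁻¹) := by simp [ht, mul_assoc]
  have hnab' : g * a * g⁻¹ ≠ g * b * g⁻¹ := fun e => F.hne ((MulAut.conj g).injective e)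
  set A := g * a * g⁻¹
  set B := g * b * g⁻¹
  set d' := g * d * g⁻¹
  rw [hs]
  have hprod : ∀ P ∈ N D d, ∀ Q ∈ N D d, P ≠ Q → P * Q = a * b ∨ P * Q = b * a := by
    intro P hPm Q hQm hne
    rw [eP] at hPm hQm
    exact pCore_cases.products h F.ha.1 F.hb.1 hab hPm hQm hne
  by_cases hcase : ∀ z ∈ N D d' ∪ N D A, z ∉ N D d ∪ N D a
  · -- disjoint configurations
    have hnc : ∀ z ∈ N D d' ∪ N D A, z ∈ D ∧ ∀ y ∈ N D d ∪ N D a, ¬ Commute y z := by
      intro z hz
      have hzD : z ∈ D := hz.elim (fun e => e.1) (fun e => e.1)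
      refine ⟨hzD, fun y hy hc => ?_⟩
      have hyz : z ≠ y := fun e => hcase z hz (e ▸ hy)
      rcases hy with hy | hy
      · exact hcase z hz (Or.inr (hP y hy ▸ (⟨hzD, hyz, hc⟩ : z ∈ N D y)))
      · exact hcase z hz (Or.inl (hR y hy ▸ (⟨hzD, hyz, hc⟩ : z ∈ N D y)))
    have hside : ∀ z ∈ N D d' ∪ N D A, ∀ w ∈ N D z, N D w = (if z ∈ N D d' then N D d' else N D A) := by
      intro z hz w hw
      by_cases hzd : z ∈ N D d'
      · rw [if_pos hzd]; exact hR' w (hP' z hzd ▸ hw)
      · rw [if_neg hzd]; exact hP' w (hR' z (hz.resolve_left hzd) ▸ hw)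
    -- `t` fixes every side
    have hfix : ∀ z ∈ N D d' ∪ N D A, ∃ w ∈ N D z, t * z * t⁻¹ ∈ N D w ∧ z ∈ N D w := by
      intro z hz
      obtain ⟨hzD, hzn⟩ := hnc z hz
      have hza := hzn a (Or.inl F.ha)
      have hzb := hzn b (Or.inl F.hb)
      have hzd := hzn d (Or.inr (N_symm h F.hd F.ha))
      obtain ⟨-, -, hc1, -, hsym⟩ := col h F.hd F.ha.1 hzD (Ne.symm F.ha.2.1) F.ha.2.2 hzd hza
      set w := d * z * a * z * d with hw
      have hwN : w ∈ N D z := ⟨(col h F.hd F.ha.1 hzD (Ne.symm F.ha.2.1) F.ha.2.2 hzd hza).1,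
        (col h F.hd F.ha.1 hzD (Ne.symm F.ha.2.1) F.ha.2.2 hzd hza).2.1, hc1⟩
      have hzw : z ∈ N D w := N_symm h hzD hwN
      refine ⟨w, hwN, ⟨h.conj t z hzD, fun e => ?_, ?_⟩, hzw⟩
      · -- equality would make `z` a conjugate commuting with it
        -- `w = a * (z * d * z) * a`
        have hw2 : w = a * z * d * z * a := hsym
        have e1 : b * z * b = z * d * z := by
          have := congrArg (fun u => a * u * a) e
          rw [hw2] at this
          simp only [ht, mul_inv_rev, inv_self h.set F.ha.1, inv_self h.set F.hb.1, mul_assoc, mul_self h.set F.ha.1,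
            mul_mul_cancel_self (mul_self h.set F.ha.1), mul_one] at this
          simpa only [mul_assoc] using this
        rw [braid h.set F.hb.1 hzD hzb] at e1
        have e2 : b = d := by
          have := congrArg (fun u => z * u * z) e1
          simpa only [mul_assoc, mul_self h.set hzD, mul_mul_cancel_self (mul_self h.set hzD), mul_one] using this
        exact absurd e2 F.hb.2.1
      · -- conjugate of `z b z ∈ N (z d z)` by `a`
        have hw2 : w = a * z * d * z * a := hsym
        have e : t * z * t⁻¹ = a * (b * z * b) * a := by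
          simp [ht, inv_self h.set F.ha.1, inv_self h.set F.hb.1, mul_assoc]
        rw [e, braid h.set F.hb.1 hzD hzb, hw2]
        have hc0 : Commute (z * d * z) (z * b * z) := by
          have := Commute.map F.hb.2.2 (MulAut.conj z).toMonoidHom
          simpa [inv_self h.set hzD] using this
        have := Commute.map hc0 (MulAut.conj a).toMonoidHom
        simpa [inv_self h.set F.ha.1, mul_assoc] using this
    have hN1 : ∀ z ∈ N D d', t * z * t⁻¹ ∈ N D d' := by
      intro z hz
      obtain ⟨w, hw, htw, -⟩ := hfix z (Or.inl hz)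
      have := hside z (Or.inl hz) w hw
      rw [if_pos hz] at this
      exact this ▸ htw
    have hA' : A ∈ N D d' := (F.conj h g).ha
    have hB' : B ∈ N D d' := (F.conj h g).hb
    obtain ⟨eP', -, -, hAB⟩ := N_eq h (F.conj h g).hd hA' hB' hnab'
    have h1 : t * A * t⁻¹ ∈ N D d' := hN1 A hA'
    have h2 : t * B * t⁻¹ ∈ N D d' := hN1 B hB'
    rw [eP'] at h1 h2
    have hmul : t * (A * B) * t⁻¹ = (t * A * t⁻¹) * (t * B * t⁻¹) := by simp [mul_assoc]
    rcases pCore_cases.products h hA'.1 hB'.1 hAB h1 h2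
      (fun e => hnab' ((MulAut.conj t).injective e)) with e | e
    · rw [← hmul] at e
      exact mul_inv_eq_iff_eq_mul.mp e
    · exfalso
      rw [← hmul, show B * A = (A * B)⁻¹ by simp [inv_self h.set hA'.1, inv_self h.set hB'.1]] at e
      have e2 : t * (t * (A * B) * t⁻¹) * t⁻¹ = A * B := by
        rw [e, show t * (A * B)⁻¹ * t⁻¹ = (t * (A * B) * t⁻¹)⁻¹ by group, e, inv_inv]
      have e3 : t ^ 3 * (A * B) * (t ^ 3)⁻¹ = t * (t * (t * (A * B) * t⁻¹) * t⁻¹) * t⁻¹ := by
        simp only [pow_succ, pow_zero, one_mul, mul_inv_rev, mul_assoc]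
      rw [e2, e, ht3, inv_one, mul_one, one_mul] at e3
      have hs2 : (A * B) * (A * B) = 1 := by
        nth_rewrite 1 [e3]
        exact inv_mul_cancel _
      exact hAB ((commute_iff_sq (h.set.1 A hA'.1) (h.set.1 B hB'.1)).mpr (by rw [pow_two]; exact hs2))
  · -- overlapping configurations
    push Not at hcase
    obtain ⟨z, hz, hzN⟩ := hcase
    have hA' : A ∈ N D d' := (F.conj h g).ha
    have hB' : B ∈ N D d' := (F.conj h g).hb
    have hsub : N D d' = N D d ∨ N D d' = N D a := by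
      rcases hz with hz | hz
      · -- `z` is in the near side
        have hd'z := hP' z hz
        rcases hzN with hzN | hzN
        · refine Or.inl ?_
          have hAa : N D A = N D a := hd'z.symm.trans (hP z hzN)
          rw [← hR' d (hAa.symm ▸ N_symm h F.hd F.ha)]
        · refine Or.inr ?_
          have hAd : N D A = N D d := hd'z.symm.trans (hR z hzN)
          rw [← hR' a (hAd.symm ▸ F.ha)]
      · have hd'z := hR' z hz
        rcases hzN with hzN | hzN
        · exact Or.inr (hd'z.symm.trans (hP z hzN))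
        · exact Or.inl (hd'z.symm.trans (hR z hzN))
    rcases hsub with e | e <;> rw [e] at hA' hB'
    · rcases hprod A hA' B hB' hnab' with e' | e' <;> rw [e']
      rw [show b * a = (a * b)⁻¹ by simp [inv_self h.set F.ha.1, inv_self h.set F.hb.1]]
      exact (Commute.refl _).inv_right
    · have hc : ∀ p ∈ N D d, ∀ r ∈ N D a, Commute p r := fun p hp r hr =>
        (show r ∈ N D p from (hP p hp).symm ▸ hr).2.2
      exact (commute_prod (hc a F.ha A hA') (hc b F.hb A hA')).mul_right (commute_prod (hc a F.ha B hB') (hc b F.hb B hB'))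

/-- Every member lies in the configuration. -/
theorem Facing.all (F : Facing D d a b x) {z : G} (hz : z ∈ D) : z ∈ N D d ∪ N D a := by
  classical
  haveI : Fact (Nat.Prime 3) := ⟨Nat.prime_three⟩
  obtain ⟨hP, hR⟩ := F.sides h
  obtain ⟨-, -, -, hab⟩ := N_eq h F.hd F.ha F.hb F.hne
  by_contra hzN
  set t := a * b with ht
  let T : Set G := Set.range fun g : G => g * t * g⁻¹
  let W := Subgroup.closure T
  have hT : ∀ u ∈ T, ∀ v ∈ T, Commute u v := by
    rintro _ ⟨g, rfl⟩ _ ⟨k, rfl⟩
    have := Commute.map (F.commute_conj h (g⁻¹ * k)) (MulAut.conj g).toMonoidHom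
    simpa [mul_assoc, ht] using this
  haveI hcomm : IsMulCommutative ↥W := Subgroup.isMulCommutative_closure (fun u hu v hv => hT u hu v hv)
  haveI hn : W.Normal := ⟨fun w hw k => by
    have hle : W ≤ W.comap (MulAut.conj k).toMonoidHom := by
      rw [Subgroup.closure_le]
      rintro _ ⟨g, rfl⟩
      refine Subgroup.subset_closure ⟨k * g, ?_⟩
      simp [mul_assoc]
    exact hle hw⟩
  have hexp : ∀ w ∈ W, w ^ 3 = 1 := by
    intro w hw
    induction hw using Subgroup.closure_induction with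
    | mem u hu => obtain ⟨g, rfl⟩ := hu; rw [conj_pow, pow_three h.set F.ha.1 F.hb.1 hab, mul_one, mul_inv_cancel]
    | one => exact one_pow 3
    | mul u v hu hv eu ev =>
      rw [Commute.mul_pow (congrArg Subtype.val (hcomm.is_comm.comm ⟨u, hu⟩ ⟨v, hv⟩) : u * v = v * u), eu, ev, one_mul]
    | inv u _ eu => rw [inv_pow, eu, inv_one]
  have hW : IsPGroup 3 W := fun w => ⟨1, Subtype.ext (by rw [Subgroup.coe_pow, pow_one]; exact hexp w w.2)⟩
  have hnd : ¬ Commute d z := fun e => by
    have hzd : z ≠ d := fun e' => hzN (Or.inr (e' ▸ N_symm h F.hd F.ha))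
    exact hzN (Or.inl ⟨hz, hzd, e⟩)
  have hna : ¬ Commute a z := fun e => by
    have hza : z ≠ a := fun e' => hzN (Or.inl (e' ▸ F.ha))
    exact hzN (Or.inr ⟨hz, hza, e⟩)
  have hbot := normal_three_trivial h W hW F.hd F.ha.1 hz (Ne.symm F.ha.2.1) F.ha.2.2 hnd hna
  have : t ∈ W := Subgroup.subset_closure ⟨1, by simp⟩
  rw [hbot, Subgroup.mem_bot] at this
  exact F.hne (by rw [eq_inv_of_mul_eq_one_left this, inv_self h.set F.hb.1])

theorem Facing.iso (F : Facing D d a b x) :
    Nonempty (↥(Subgroup.closure D) ≃* Equiv.Perm (Fin 3) × Equiv.Perm (Fin 3)) := by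
  classical
  obtain ⟨hP, hR⟩ := F.sides h
  obtain ⟨eP, -, -, hab⟩ := N_eq h F.hd F.ha F.hb F.hne
  have hda := N_symm h F.hd F.ha
  obtain ⟨eR, -, -, hdx⟩ := N_eq h F.ha.1 hda F.hxa (Ne.symm F.hxd)
  have hc : ∀ p ∈ N D d, ∀ r ∈ N D a, Commute p r := fun p hp r hr => (show r ∈ N D p from (hP p hp).symm ▸ hr).2.2
  have haa := mul_self h.set F.ha.1
  obtain ⟨φ₁, h10, h11⟩ := exists_hom_S3 haa (mul_self h.set F.hb.1)
    (braid h.set F.hb.1 F.ha.1 (fun e => hab e.symm))
  obtain ⟨φ₂, h20, h21⟩ := exists_hom_S3 (mul_self h.set F.hd) (mul_self h.set F.hxa.1)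
    (braid h.set F.hxa.1 F.hd (fun e => hdx e.symm))
  have hgen : Subgroup.closure ({Equiv.swap 0 1, Equiv.swap 1 2} : Set (Equiv.Perm (Fin 3))) = ⊤ := by
    rw [eq_top_iff]
    intro σ _
    have hk : ∀ σ : Equiv.Perm (Fin 3), ∃ k < 6,
        evW ![Equiv.swap 0 1, Equiv.swap 1 2] (words3.getD k []) = σ := by decide +kernel
    obtain ⟨k, -, rfl⟩ := hk σ
    refine list_prod_mem fun y hy => ?_
    obtain ⟨i, -, rfl⟩ := List.mem_map.mp hy
    fin_cases i <;> exact Subgroup.subset_closure (by simp)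
  have hr1 : φ₁.range = Subgroup.closure ({a, b} : Set G) := by
    rw [MonoidHom.range_eq_map, ← hgen, MonoidHom.map_closure, Set.image_pair, h10, h11]
  have hr2 : φ₂.range = Subgroup.closure ({d, x} : Set G) := by
    rw [MonoidHom.range_eq_map, ← hgen, MonoidHom.map_closure, Set.image_pair, h20, h21]
  have hcomm : ∀ σ τ, Commute (φ₁ σ) (φ₂ τ) := by
    intro σ τ
    have hle : φ₁.range ≤ Subgroup.centralizer (φ₂.range : Set G) := by
      rw [hr1, hr2, Subgroup.centralizer_closure, Subgroup.closure_le]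
      intro p hp
      refine Subgroup.mem_centralizer_iff.mpr fun r hr => ?_
      have hp' : p ∈ N D d := by rcases hp with rfl | rfl; exacts [F.ha, F.hb]
      have hr' : r ∈ N D a := by rcases hr with rfl | rfl; exacts [hda, F.hxa]
      exact (hc p hp' r hr').symm.eq
    exact (Subgroup.mem_centralizer_iff.mp (hle ⟨σ, rfl⟩) _ ⟨τ, rfl⟩).symm
  have hi1 : Function.Injective φ₁ := injective_S3_hom (by
    rw [map_mul, h10, h11]
    exact fun e => F.hne (by rw [eq_inv_of_mul_eq_one_left e, inv_self h.set F.hb.1]))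
  have hi2 : Function.Injective φ₂ := injective_S3_hom (by
    rw [map_mul, h20, h21]
    exact fun e => F.hxd (by rw [eq_inv_of_mul_eq_one_left e, inv_self h.set F.hxa.1]))
  let Φ := φ₁.noncommCoprod φ₂ hcomm
  have hΦ : Function.Injective Φ := by
    refine (injective_iff_map_eq_one Φ).mpr ?_
    rintro ⟨σ, τ⟩ e
    have e' : φ₁ σ * φ₂ τ = 1 := e
    have hcen : ∀ π, π * σ = σ * π := fun π => hi1 (by
      rw [map_mul, map_mul, eq_inv_of_mul_eq_one_left e']
      exact (hcomm π τ).inv_right.eq)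
    have key : ∀ σ : Equiv.Perm (Fin 3), (∀ π, π * σ = σ * π) → σ = 1 := by decide +kernel
    obtain rfl := key σ hcen
    rw [map_one, one_mul] at e'
    exact Prod.ext rfl (hi2 (e'.trans (map_one φ₂).symm))
  have hrange : Φ.range = Subgroup.closure D := by
    rw [MonoidHom.noncommCoprod_range, hr1, hr2]
    refine le_antisymm (sup_le ?_ ?_) ?_
    · refine Subgroup.closure_mono ?_
      rintro p (rfl | rfl); exacts [F.ha.1, F.hb.1]
    · refine Subgroup.closure_mono ?_
      rintro p (rfl | rfl); exacts [F.hd, F.hxa.1]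
    · rw [Subgroup.closure_le]
      intro z hz
      rcases F.all h hz with hz' | hz'
      · rw [eP] at hz'
        refine Subgroup.mem_sup_left ?_
        have h1 : a ∈ Subgroup.closure ({a, b} : Set G) := Subgroup.subset_closure (by simp)
        have h2 : b ∈ Subgroup.closure ({a, b} : Set G) := Subgroup.subset_closure (by simp)
        rcases hz' with rfl | rfl | rfl
        exacts [h1, h2, mul_mem (mul_mem h1 h2) h1]
      · rw [eR] at hz'
        refine Subgroup.mem_sup_right ?_
        have h1 : d ∈ Subgroup.closure ({d, x} : Set G) := Subgroup.subset_closure (by simp)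
        have h2 : x ∈ Subgroup.closure ({d, x} : Set G) := Subgroup.subset_closure (by simp)
        rcases hz' with rfl | rfl | rfl
        exacts [h1, h2, mul_mem (mul_mem h1 h2) h1]
  exact ⟨((MonoidHom.ofInjective hΦ).trans (MulEquiv.subgroupCongr hrange)).symm⟩

end CfsgLocalS3
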