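/-
The Petersen configuration.
-/
import Cfsg.Agent.Lib.LocalS3.CaseA
import Mathlib.GroupTheory.SpecificGroups.Alternating

set_option autoImplicit false
set_option linter.style.haveILetI false

namespace CfsgLocalS3

open Cfsg CfsgThreeTrans

set_option synthInstance.maxSize 5000 in
set_option synthInstance.maxHeartbeats 200000 in
/-- The Petersen graph has no proper edge colouring with three colours. -/
theorem no_colouring : ∀ e1 e2 : Fin 3, e1 ≠ e2 → ∀ e3 : Fin 3, e3 ≠ e1 → e3 ≠ e2 →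
    ∀ e4 : Fin 3, e4 ≠ e1 → ∀ e5 : Fin 3, e5 ≠ e1 → e5 ≠ e4 → ∀ e6 : Fin 3, e6 ≠ e2 → ∀ e7 : Fin 3, e7 ≠ e2 → e7 ≠ e6 →
    ∀ e8 : Fin 3, e8 ≠ e3 → ∀ e9 : Fin 3, e9 ≠ e3 → e9 ≠ e8 →
    ∀ e10 : Fin 3, e10 ≠ e4 → e10 ≠ e7 → ∀ e11 : Fin 3, e11 ≠ e4 → e11 ≠ e10 → e11 ≠ e9 →
    ∀ e12 : Fin 3, e12 ≠ e5 → e12 ≠ e6 → ∀ e13 : Fin 3, e13 ≠ e5 → e13 ≠ e12 → e13 ≠ e8 →
    ∀ e14 : Fin 3, e14 ≠ e6 → e14 ≠ e12 → e14 ≠ e9 → e14 ≠ e11 →
    ∀ e15 : Fin 3, e15 ≠ e7 → e15 ≠ e10 → e15 ≠ e8 → e15 ≠ e13 → False := by decide +kernel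

abbrev P5 := Equiv.Perm (Fin 5)

theorem swap_facts : ∀ i j : Fin 5, i ≠ j → ∃ k l m : Fin 5, k ≠ l ∧ k ≠ m ∧ l ≠ m ∧
    k ≠ i ∧ k ≠ j ∧ l ≠ i ∧ l ≠ j ∧ m ≠ i ∧ m ≠ j := by decide +kernel

theorem swap_commute : ∀ i j k l : Fin 5, k ≠ i → k ≠ j → l ≠ i → l ≠ j → k ≠ l → i ≠ j →
    Equiv.swap i j * Equiv.swap k l = Equiv.swap k l * Equiv.swap i j ∧ Equiv.swap k l ≠ Equiv.swap i j := by decide +kernel

variable {G : Type*} [Group G] [Finite G] {D : Set G} (h : Hyp D)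
include h

theorem exists_hom_S5 {d p a b : G} (hd : d ∈ D) (hp : p ∈ D) (ha : a ∈ D) (hb : b ∈ D) (hdp : ¬ Commute d p)
    (hda : Commute d a) (hdb : Commute d b) (hpa : ¬ Commute p a) (hpb : Commute p b) (hab : ¬ Commute a b)
    (hne : d ≠ a) :
    ∃ φ : P5 →* G, Function.Injective φ ∧ φ (Equiv.swap 0 1) = d ∧ φ (Equiv.swap 1 2) = p ∧
      φ (Equiv.swap 2 3) = a ∧ φ (Equiv.swap 3 4) = b := by
  classical
  obtain ⟨cs, hcs⟩ := Cfsg.Agent.S2530.result 4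
  let v : Fin 4 → G := ![d, p, a, b]
  have hm : ∀ i, v i * v i = 1 := fun i => by
    fin_cases i <;> simp [v, mul_self h.set hd, mul_self h.set hp, mul_self h.set ha, mul_self h.set hb]
  have h3 : ∀ {x y : G}, x ∈ D → y ∈ D → ¬ Commute x y → (x * y) ^ 3 = 1 ∧ (y * x) ^ 3 = 1 := fun hx hy he =>
    ⟨pow_three h.set hx hy he, pow_three h.set hy hx (fun e => he e.symm)⟩
  have h2 : ∀ {x y : G}, x ∈ D → y ∈ D → Commute x y → (x * y) ^ 2 = 1 ∧ (y * x) ^ 2 = 1 := fun hx hy he =>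
    ⟨(commute_iff_sq (h.set.1 _ hx) (h.set.1 _ hy)).mp he, (commute_iff_sq (h.set.1 _ hy) (h.set.1 _ hx)).mp he.symm⟩
  have hv : (CoxeterMatrix.A 4).IsLiftable v := by
    intro i j
    fin_cases i <;> fin_cases j <;>
      simp [CoxeterMatrix.A, v, mul_self h.set hd, mul_self h.set hp, mul_self h.set ha, mul_self h.set hb,
        h3 hd hp hdp, h3 hp ha hpa, h3 ha hb hab, h2 hd ha hda, h2 hd hb hdb, h2 hp hb hpb]
  let φ : P5 →* G := cs.lift ⟨v, hv⟩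
  have hφ : ∀ i : Fin 4, φ (Equiv.swap i.castSucc i.succ) = v i := fun i => by
    rw [← hcs i]; exact cs.lift_apply_simple hv i
  have e0 : φ (Equiv.swap 0 1) = d := hφ 0
  have e1 : φ (Equiv.swap 1 2) = p := hφ 1
  have e2 : φ (Equiv.swap 2 3) = a := hφ 2
  have e3 : φ (Equiv.swap 3 4) = b := hφ 3
  refine ⟨φ, ?_, e0, e1, e2, e3⟩
  haveI : IsSimpleGroup (alternatingGroup (Fin 5)) := alternatingGroup.isSimpleGroup (by simp [Nat.card_eq_fintype_card])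
  have hK : (φ.comp (alternatingGroup (Fin 5)).subtype).ker = ⊥ := by
    refine ((MonoidHom.normal_ker _).eq_bot_or_eq_top).resolve_right fun ht => ?_
    have hmem : Equiv.swap (0 : Fin 5) 1 * Equiv.swap 2 3 ∈ alternatingGroup (Fin 5) := by
      rw [Equiv.Perm.mem_alternatingGroup]; decide
    have h0 : (φ.comp (alternatingGroup (Fin 5)).subtype) ⟨_, hmem⟩ = 1 := by
      rw [← MonoidHom.mem_ker, ht]; trivial
    have h1 : d * a = 1 := by rw [← e0, ← e2, ← map_mul]; exact h0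
    exact hne (by rw [eq_inv_of_mul_eq_one_left h1, inv_self h.set ha])
  refine (injective_iff_map_eq_one φ).mpr fun σ hσ => ?_
  have key : ∀ σ : P5, (∀ i : Fin 4, σ * Equiv.swap i.castSucc i.succ = Equiv.swap i.castSucc i.succ * σ) → σ = 1 := by
    decide +kernel
  refine key σ fun i => ?_
  set s := Equiv.swap (i.castSucc) i.succ
  have hev : σ * s * σ⁻¹ * s⁻¹ ∈ alternatingGroup (Fin 5) := by
    rw [Equiv.Perm.mem_alternatingGroup]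
    rcases Int.units_eq_one_or (Equiv.Perm.sign σ) with e | e <;>
      rcases Int.units_eq_one_or (Equiv.Perm.sign s) with e' | e' <;> simp [map_mul, e, e']
  have h1 : (⟨_, hev⟩ : alternatingGroup (Fin 5)) = 1 := by
    rw [← Subgroup.mem_bot, ← hK, MonoidHom.mem_ker]
    show φ (σ * s * σ⁻¹ * s⁻¹) = 1
    simp [hσ]
  have h2 : σ * s * σ⁻¹ * s⁻¹ = 1 := congrArg Subtype.val h1
  rw [mul_inv_eq_one, mul_inv_eq_iff_eq_mul] at h2
  exact h2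

theorem petersen {d p a b : G} (hd : d ∈ D) (hp : p ∈ D) (ha : a ∈ D) (hb : b ∈ D) (hdp : ¬ Commute d p)
    (hda : Commute d a) (hdb : Commute d b) (hpa : ¬ Commute p a) (hpb : Commute p b) (hab : ¬ Commute a b)
    (hne : d ≠ a) : Nonempty (↥(Subgroup.closure D) ≃* Equiv.Perm (Fin 5)) := by
  classical
  obtain ⟨φ, hφ, e0, e1, e2, e3⟩ := exists_hom_S5 h hd hp ha hb hdp hda hdb hpa hpb hab hne
  have hD : ∀ i j : Fin 5, i ≠ j → φ (Equiv.swap i j) ∈ D := by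
    intro i j hij
    obtain ⟨σ, hσ⟩ : ∃ σ : P5, σ 0 = i ∧ σ 1 = j := (by decide +kernel : ∀ i j : Fin 5, i ≠ j → ∃ σ : P5, σ 0 = i ∧ σ 1 = j) i j hij
    have : σ * Equiv.swap 0 1 * σ⁻¹ = Equiv.swap i j := by
      rw [← hσ.1, ← hσ.2, Equiv.swap_apply_apply]
    rw [← this, map_mul, map_mul, map_inv, e0]
    exact h.conj _ d hd
  have hedge : ∀ i j k l : Fin 5, k ≠ i → k ≠ j → l ≠ i → l ≠ j → k ≠ l → i ≠ j →
      φ (Equiv.swap k l) ∈ N D (φ (Equiv.swap i j)) := by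
    intro i j k l h1 h2 h3 h4 h5 h6
    obtain ⟨hc, hn⟩ := swap_commute i j k l h1 h2 h3 h4 h5 h6
    exact ⟨hD k l h5, fun e => hn (hφ e), Commute.map (show Commute _ _ from hc) φ⟩
  have hnbr : ∀ i j : Fin 5, i ≠ j → ∀ z ∈ N D (φ (Equiv.swap i j)), ∃ k l : Fin 5, k ≠ l ∧ z = φ (Equiv.swap k l) := by
    intro i j hij z hz
    obtain ⟨k, l, m, hkl, hkm, hlm, hki, hkj, hli, hlj, hmi, hmj⟩ := swap_facts i j hij
    have hne3 : ∀ k l m : Fin 5, k ≠ l → k ≠ m → l ≠ m → Equiv.swap k l ≠ Equiv.swap k m ∧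
        Equiv.swap k l ≠ Equiv.swap l m ∧ Equiv.swap k m ≠ Equiv.swap l m := by decide +kernel
    obtain ⟨n1, n2, n3⟩ := hne3 k l m hkl hkm hlm
    rcases mem_three h (hD i j hij) (hedge i j k l hki hkj hli hlj hkl hij) (hedge i j k m hki hkj hmi hmj hkm hij)
      (hedge i j l m hli hlj hmi hmj hlm hij) (fun e => n1 (hφ e)) (fun e => n2 (hφ e)) (fun e => n3 (hφ e)) hz with e | e | e
    exacts [⟨k, l, hkl, e⟩, ⟨k, m, hkm, e⟩, ⟨l, m, hlm, e⟩]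
  have hall : ∀ z ∈ D, ∃ k l : Fin 5, k ≠ l ∧ z = φ (Equiv.swap k l) := by
    intro z hz
    by_contra hno
    have hnc : ∀ i j : Fin 5, i ≠ j → ¬ Commute (φ (Equiv.swap i j)) z := fun i j hij hc =>
      hno (hnbr i j hij z ⟨hz, fun e => hno ⟨i, j, hij, e⟩, hc⟩)
    obtain ⟨q1, q2, hq1, hq2, hq1z, hq2z, hzq1, hzq2, hq12', -, -, -, hcases⟩ := triple h hz
    have hq12 : q1 ≠ q2 := fun e => hq12' (e ▸ Commute.refl _)
    let f : P5 → P5 → G := fun u v => φ u * z * φ v * z * φ u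
    have hf : ∀ i j k l : Fin 5, k ≠ i → k ≠ j → l ≠ i → l ≠ j → k ≠ l → i ≠ j →
        (f (Equiv.swap i j) (Equiv.swap k l) = q1 ∨ f (Equiv.swap i j) (Equiv.swap k l) = q2 ∨
          f (Equiv.swap i j) (Equiv.swap k l) = q1 * q2 * q1) ∧
        f (Equiv.swap i j) (Equiv.swap k l) = f (Equiv.swap k l) (Equiv.swap i j) := by
      intro i j k l h1 h2 h3 h4 h5 h6
      have he := hedge i j k l h1 h2 h3 h4 h5 h6
      obtain ⟨c1, c2, c3, -, c5⟩ := col h (hD i j h6) he.1 hz (Ne.symm he.2.1) he.2.2 (hnc i j h6) (hnc k l h5)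
      exact ⟨hcases _ c1 c2 c3, c5⟩
    let cl : G → Fin 3 := fun g => if g = q1 then 0 else if g = q2 then 1 else 2
    have hcl : ∀ g g', (g = q1 ∨ g = q2 ∨ g = q1 * q2 * q1) → (g' = q1 ∨ g' = q2 ∨ g' = q1 * q2 * q1) →
        cl g = cl g' → g = g' := by
      intro g g' hg hg' e
      obtain ⟨n31, n32⟩ := not_commute_aba h hq1 hq2 (not_commute h hz hq1 hq2 hq1z hq2z hzq1 hzq2 hq12)
      have k1 : cl q1 = 0 := if_pos rfl
      have k2 : cl q2 = 1 := by simp [cl, Ne.symm hq12]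
      have k3 : cl (q1 * q2 * q1) = 2 := by
        simp only [cl]
        rw [if_neg (fun e' => n31 (by rw [e'])), if_neg (fun e' => n32 (by rw [e']))]
      rcases hg with e1 | e1 | e1 <;> rcases hg' with e2 | e2 | e2 <;> rw [e1, e2] at e ⊢ <;>
        simp only [k1, k2, k3] at e <;> exact absurd e (by decide)
    have hinj : ∀ {i j : Fin 5}, i ≠ j → ∀ {u v : P5}, f (Equiv.swap i j) u = f (Equiv.swap i j) v → u = v :=
      fun {i j} hij {u v} e => hφ (col_inj h (hD i j hij) hz e)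
    -- edges at a vertex get different colours
    have hdiff : ∀ i j k l m n : Fin 5, k ≠ i → k ≠ j → l ≠ i → l ≠ j → k ≠ l → i ≠ j → m ≠ i → m ≠ j → n ≠ i → n ≠ j → m ≠ n →
        Equiv.swap k l ≠ Equiv.swap m n →
        cl (f (Equiv.swap i j) (Equiv.swap k l)) ≠ cl (f (Equiv.swap i j) (Equiv.swap m n)) := by
      intro i j k l m n h1 h2 h3 h4 h5 h6 g1 g2 g3 g4 g5 hne' e
      exact hne' (hinj h6 (hcl _ _ (hf i j k l h1 h2 h3 h4 h5 h6).1 (hf i j m n g1 g2 g3 g4 g5 h6).1 e))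
    have hsym : ∀ i j k l : Fin 5, k ≠ i → k ≠ j → l ≠ i → l ≠ j → k ≠ l → i ≠ j →
        cl (f (Equiv.swap i j) (Equiv.swap k l)) = cl (f (Equiv.swap k l) (Equiv.swap i j)) := fun i j k l h1 h2 h3 h4 h5 h6 =>
      congrArg cl (hf i j k l h1 h2 h3 h4 h5 h6).2
    -- the vertices
    let c : Fin 5 → Fin 5 → Fin 5 → Fin 5 → Fin 3 := fun i j k l => cl (f (Equiv.swap i j) (Equiv.swap k l))
    have D' : ∀ i j k l m n : Fin 5, (k ≠ i ∧ k ≠ j ∧ l ≠ i ∧ l ≠ j ∧ k ≠ l ∧ i ≠ j ∧ m ≠ i ∧ m ≠ j ∧ n ≠ i ∧ n ≠ j ∧ m ≠ n ∧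
        Equiv.swap k l ≠ Equiv.swap m n) → c i j k l ≠ c i j m n := fun i j k l m n hh =>
      hdiff i j k l m n hh.1 hh.2.1 hh.2.2.1 hh.2.2.2.1 hh.2.2.2.2.1 hh.2.2.2.2.2.1 hh.2.2.2.2.2.2.1 hh.2.2.2.2.2.2.2.1
        hh.2.2.2.2.2.2.2.2.1 hh.2.2.2.2.2.2.2.2.2.1 hh.2.2.2.2.2.2.2.2.2.2.1 hh.2.2.2.2.2.2.2.2.2.2.2
    have S' : ∀ i j k l : Fin 5, (k ≠ i ∧ k ≠ j ∧ l ≠ i ∧ l ≠ j ∧ k ≠ l ∧ i ≠ j) → c i j k l = c k l i j := fun i j k l hh =>
      hsym i j k l hh.1 hh.2.1 hh.2.2.1 hh.2.2.2.1 hh.2.2.2.2.1 hh.2.2.2.2.2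
    refine no_colouring (c 0 1 2 3) (c 0 1 2 4) (D' _ _ _ _ _ _ (by decide))
      (c 0 1 3 4) (D' _ _ _ _ _ _ (by decide)) (D' _ _ _ _ _ _ (by decide))
      (c 2 3 0 4) ?_ (c 2 3 1 4) ?_ ?_ (c 2 4 0 3) ?_ (c 2 4 1 3) ?_ ?_ (c 3 4 0 2) ?_ (c 3 4 1 2) ?_ ?_
      (c 0 4 1 3) ?_ ?_ (c 0 4 1 2) ?_ ?_ ?_ (c 1 4 0 3) ?_ ?_ (c 1 4 0 2) ?_ ?_ ?_
      (c 0 3 1 2) ?_ ?_ ?_ ?_ (c 1 3 0 2) ?_ ?_ ?_ ?_
    · rw [S' 0 1 2 3 (by decide)]; exact D' _ _ _ _ _ _ (by decide)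
    · rw [S' 0 1 2 3 (by decide)]; exact D' _ _ _ _ _ _ (by decide)
    · exact D' _ _ _ _ _ _ (by decide)
    · rw [S' 0 1 2 4 (by decide)]; exact D' _ _ _ _ _ _ (by decide)
    · rw [S' 0 1 2 4 (by decide)]; exact D' _ _ _ _ _ _ (by decide)
    · exact D' _ _ _ _ _ _ (by decide)
    · rw [S' 0 1 3 4 (by decide)]; exact D' _ _ _ _ _ _ (by decide)
    · rw [S' 0 1 3 4 (by decide)]; exact D' _ _ _ _ _ _ (by decide)
    · exact D' _ _ _ _ _ _ (by decide)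
    · rw [S' 2 3 0 4 (by decide)]; exact D' _ _ _ _ _ _ (by decide)
    · rw [S' 0 4 1 3 (by decide), S' 2 4 1 3 (by decide)]; exact D' _ _ _ _ _ _ (by decide)
    · rw [S' 2 3 0 4 (by decide)]; exact D' _ _ _ _ _ _ (by decide)
    · exact D' _ _ _ _ _ _ (by decide)
    · rw [S' 0 4 1 2 (by decide), S' 3 4 1 2 (by decide)]; exact D' _ _ _ _ _ _ (by decide)
    · rw [S' 2 3 1 4 (by decide)]; exact D' _ _ _ _ _ _ (by decide)
    · rw [S' 1 4 0 3 (by decide), S' 2 4 0 3 (by decide)]; exact D' _ _ _ _ _ _ (by decide)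
    · rw [S' 2 3 1 4 (by decide)]; exact D' _ _ _ _ _ _ (by decide)
    · exact D' _ _ _ _ _ _ (by decide)
    · rw [S' 1 4 0 2 (by decide), S' 3 4 0 2 (by decide)]; exact D' _ _ _ _ _ _ (by decide)
    · rw [S' 2 4 0 3 (by decide)]; exact D' _ _ _ _ _ _ (by decide)
    · rw [S' 1 4 0 3 (by decide)]; exact D' _ _ _ _ _ _ (by decide)
    · rw [S' 0 3 1 2 (by decide), S' 3 4 1 2 (by decide)]; exact D' _ _ _ _ _ _ (by decide)
    · rw [S' 0 3 1 2 (by decide), S' 0 4 1 2 (by decide)]; exact D' _ _ _ _ _ _ (by decide)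
    · rw [S' 2 4 1 3 (by decide)]; exact D' _ _ _ _ _ _ (by decide)
    · rw [S' 0 4 1 3 (by decide)]; exact D' _ _ _ _ _ _ (by decide)
    · rw [S' 1 3 0 2 (by decide), S' 3 4 0 2 (by decide)]; exact D' _ _ _ _ _ _ (by decide)
    · rw [S' 1 3 0 2 (by decide), S' 1 4 0 2 (by decide)]; exact D' _ _ _ _ _ _ (by decide)
  have hr : φ.range = Subgroup.closure D := by
    refine le_antisymm ?_ ?_
    · rintro _ ⟨σ, rfl⟩
      induction σ using Equiv.Perm.swap_induction_on with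
      | one => rw [map_one]; exact one_mem _
      | swap_mul σ i j hij ih => rw [map_mul]; exact mul_mem (Subgroup.subset_closure (hD i j hij)) ih
    · rw [Subgroup.closure_le]
      intro z hz
      obtain ⟨k, l, -, rfl⟩ := hall z hz
      exact ⟨_, rfl⟩
  exact ⟨((MonoidHom.ofInjective hφ).trans (MulEquiv.subgroupCongr hr)).symm⟩

theorem main (hne : D.Nonempty) :
    Nonempty (↥(Subgroup.closure D) ≃* Equiv.Perm (Fin 5)) ∨
      Nonempty (↥(Subgroup.closure D) ≃* Equiv.Perm (Fin 3) × Equiv.Perm (Fin 3)) := by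
  by_cases hA : ∃ d a b x : G, Facing D d a b x
  · obtain ⟨d, a, b, x, F⟩ := hA
    exact Or.inr (F.iso h)
  · refine Or.inl ?_
    obtain ⟨d, hd⟩ := hne
    obtain ⟨a, b, ha, hb, had, hbd, hda, hdb, hab, -, -, -, -⟩ := triple h hd
    have hbne : a ≠ b := fun e => hab (e ▸ Commute.refl _)
    obtain ⟨p, q, hp, hq, hpb, hqb, hbp, hbq, hpq, -, -, -, -⟩ := triple h hb
    obtain ⟨r, hr, hrd⟩ : ∃ r, r ∈ N D b ∧ r ≠ d := by
      by_cases e : p = d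
      · exact ⟨q, ⟨hq, hqb, hbq⟩, fun e' => hpq (by rw [e, e'])⟩
      · exact ⟨p, ⟨hp, hpb, hbp⟩, e⟩
    have hra : r ≠ a := fun e => hab (e ▸ hr.2.2).symm
    have hdr : ¬ Commute d r := not_commute h hb hd hr.1 (Ne.symm hbd) hr.2.1 hdb.symm hr.2.2 (Ne.symm hrd)
    refine petersen h hd hr.1 ha hb hdr hda hdb (fun hc => hA ⟨d, a, b, r, ?_⟩) hr.2.2.symm hab (Ne.symm had)
    exact ⟨hd, ⟨ha, had, hda⟩, ⟨hb, hbd, hdb⟩, hbne, hrd, ⟨hr.1, hra, hc.symm⟩, hr⟩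

end CfsgLocalS3
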